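import Mathlib

/-! Truncated polynomial rings `k[X]/(X^l)`: augmentation, units, nilpotents. -/

set_option autoImplicit false
universe u
open Polynomial

namespace Groth.Agent.H8.Jets

/-- Evaluating a homogeneous polynomial at a rescaled point. -/
lemma eval_smul_of_isHomogeneous {S : Type*} [CommRing S] {r : ℕ} (u : S) (f : Fin r → S)
    {n : ℕ} (G : MvPolynomial (Fin r) S) (hG : G.IsHomogeneous n) :
    MvPolynomial.eval (fun i => u * f i) G = u ^ n * MvPolynomial.eval f G := by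
  rw [MvPolynomial.eval_eq', MvPolynomial.eval_eq', Finset.mul_sum]
  refine Finset.sum_congr rfl fun d hd => ?_
  have hdeg : d.degree = n := by
    by_contra hne
    exact (MvPolynomial.mem_support_iff.mp hd) (hG.coeff_eq_zero hne)
  simp only [mul_pow, Finset.prod_mul_distrib, Finset.prod_pow_eq_pow_sum]
  rw [← Finsupp.degree_eq_sum, hdeg]
  ring

section Trunc

variable (k : Type u) [Field k]

/-- class of `X` in the truncated polynomial ring -/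
noncomputable def xx (l : ℕ) : k[X] ⧸ Ideal.span {(X : k[X]) ^ l} := Ideal.Quotient.mk _ X

lemma xx_pow (l : ℕ) : xx k l ^ l = 0 := by
  unfold xx
  rw [← map_pow, Ideal.Quotient.eq_zero_iff_mem]
  exact Ideal.mem_span_singleton_self _

lemma xx_mul_pow (l : ℕ) (h : k[X] ⧸ Ideal.span {(X : k[X]) ^ l}) : (xx k l * h) ^ l = 0 := by
  rw [mul_pow, xx_pow, zero_mul]

/-- augmentation `X ↦ 0` -/
noncomputable def aug (l : ℕ) (hl : l ≠ 0) : (k[X] ⧸ Ideal.span {(X : k[X]) ^ l}) →ₐ[k] k :=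
  Ideal.Quotient.liftₐ _ (Polynomial.aeval (0 : k)) (by
    intro a ha
    obtain ⟨b, rfl⟩ := Ideal.mem_span_singleton.mp ha
    rw [map_mul, map_pow, Polynomial.aeval_X, zero_pow hl, zero_mul])

lemma aug_mk (l : ℕ) (hl : l ≠ 0) (p : k[X]) :
    aug k l hl (Ideal.Quotient.mk _ p) = p.coeff 0 := by
  unfold aug
  rw [Ideal.Quotient.liftₐ_apply, Ideal.Quotient.lift_mk, Polynomial.coeff_zero_eq_aeval_zero]
  rfl

lemma exists_eq_add (l : ℕ) (hl : l ≠ 0) (q : k[X] ⧸ Ideal.span {(X : k[X]) ^ l}) :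
    ∃ h, q = algebraMap k _ (aug k l hl q) + xx k l * h := by
  obtain ⟨p, rfl⟩ := Ideal.Quotient.mk_surjective q
  refine ⟨Ideal.Quotient.mk _ p.divX, ?_⟩
  rw [aug_mk, xx, ← map_mul, ← Ideal.Quotient.mk_algebraMap, ← map_add,
    ← Polynomial.C_eq_algebraMap]
  congr 1
  conv_lhs => rw [← Polynomial.divX_mul_X_add p]
  ring

lemma aug_xx (l : ℕ) (hl : l ≠ 0) : aug k l hl (xx k l) = 0 := by
  rw [xx, aug_mk, Polynomial.coeff_X_zero]

lemma isNilpotent_of_aug_eq_zero (l : ℕ) (hl : l ≠ 0) (q : k[X] ⧸ Ideal.span {(X : k[X]) ^ l})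
    (h : aug k l hl q = 0) : IsNilpotent q := by
  obtain ⟨g, hg⟩ := exists_eq_add k l hl q
  rw [h, map_zero, zero_add] at hg
  exact ⟨l, by rw [hg, xx_mul_pow]⟩

lemma aug_eq_zero_of_isNilpotent (l : ℕ) (hl : l ≠ 0) (q : k[X] ⧸ Ideal.span {(X : k[X]) ^ l})
    (h : IsNilpotent q) : aug k l hl q = 0 :=
  (h.map (aug k l hl)).eq_zero

lemma isUnit_of_aug_ne_zero (l : ℕ) (hl : l ≠ 0) (q : k[X] ⧸ Ideal.span {(X : k[X]) ^ l})
    (h : aug k l hl q ≠ 0) : IsUnit q := by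
  obtain ⟨g, hg⟩ := exists_eq_add k l hl q
  rw [hg]
  exact IsNilpotent.isUnit_add_left_of_commute ⟨l, xx_mul_pow k l g⟩
    ((IsUnit.mk0 _ h).map (algebraMap k _)) (Commute.all _ _)

lemma aug_ne_zero_of_isUnit (l : ℕ) (hl : l ≠ 0) (q : k[X] ⧸ Ideal.span {(X : k[X]) ^ l})
    (h : IsUnit q) : aug k l hl q ≠ 0 :=
  (h.map (aug k l hl)).ne_zero

lemma aug_factor (l l' : ℕ) (hl : l ≠ 0) (hl' : l' ≠ 0)
    (h : Ideal.span {(X : k[X]) ^ l'} ≤ Ideal.span {(X : k[X]) ^ l})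
    (q : k[X] ⧸ Ideal.span {(X : k[X]) ^ l'}) :
    aug k l hl (Ideal.Quotient.factorₐ k h q) = aug k l' hl' q := by
  obtain ⟨p, rfl⟩ := Ideal.Quotient.mk_surjective q
  rw [Ideal.Quotient.factorₐ_apply_mk, aug_mk, aug_mk]

lemma eq_zero_of_mul_xx_pow (d : ℕ) (c : k)
    (h : algebraMap k (k[X] ⧸ Ideal.span {(X : k[X]) ^ (d + 1)}) c * xx k (d + 1) ^ d = 0) :
    c = 0 := by
  rw [xx, ← map_pow, ← Ideal.Quotient.mk_algebraMap, ← map_mul, Ideal.Quotient.eq_zero_iff_mem,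
    Ideal.mem_span_singleton, Polynomial.X_pow_dvd_iff] at h
  have := h d (Nat.lt_succ_self d)
  rwa [← Polynomial.C_eq_algebraMap, Polynomial.coeff_C_mul_X_pow, if_pos rfl] at this

lemma isNilpotent_ker_factor (l : ℕ) (hl : 1 ≤ l)
    (h : Ideal.span {(X : k[X]) ^ (l + 1)} ≤ Ideal.span {(X : k[X]) ^ l}) :
    IsNilpotent (RingHom.ker ((Ideal.Quotient.factorₐ k h :
      (k[X] ⧸ Ideal.span {(X : k[X]) ^ (l + 1)}) →ₐ[k] (k[X] ⧸ Ideal.span {(X : k[X]) ^ l})) :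
      (k[X] ⧸ Ideal.span {(X : k[X]) ^ (l + 1)}) →+* (k[X] ⧸ Ideal.span {(X : k[X]) ^ l}))) := by
  refine ⟨2, ?_⟩
  have hsq : ∀ I : Ideal (k[X] ⧸ Ideal.span {(X : k[X]) ^ (l + 1)}), I * I = ⊥ → I ^ 2 = 0 :=
    fun I hI => by rw [pow_two, hI]; rfl
  apply hsq
  rw [← le_bot_iff, Ideal.mul_le]
  intro a ha b hb
  obtain ⟨p, rfl⟩ := Ideal.Quotient.mk_surjective a
  obtain ⟨q, rfl⟩ := Ideal.Quotient.mk_surjective b
  rw [RingHom.mem_ker] at ha hb
  have ha' : (X : k[X]) ^ l ∣ p := by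
    have : Ideal.Quotient.mk (Ideal.span {(X : k[X]) ^ l}) p = 0 := ha
    rwa [Ideal.Quotient.eq_zero_iff_mem, Ideal.mem_span_singleton] at this
  have hb' : (X : k[X]) ^ l ∣ q := by
    have : Ideal.Quotient.mk (Ideal.span {(X : k[X]) ^ l}) q = 0 := hb
    rwa [Ideal.Quotient.eq_zero_iff_mem, Ideal.mem_span_singleton] at this
  rw [Ideal.mem_bot, ← map_mul, Ideal.Quotient.eq_zero_iff_mem, Ideal.mem_span_singleton]
  calc (X : k[X]) ^ (l + 1) ∣ X ^ l * X ^ l := by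
        rw [← pow_add]; exact pow_dvd_pow X (by omega)
    _ ∣ p * q := mul_dvd_mul ha' hb'

end Trunc

end Groth.Agent.H8.Jets
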