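import Mathlib
import Groth.Agent.Lib.Helper2.HSReg2
import Groth.Agent.Lib.Helper8.Jets.Trunc

/-! A Noetherian local `k`-algebra with a `k`-point all of whose curvilinear jets lift is regular. -/

set_option autoImplicit false
set_option linter.style.haveILetI false
universe u
open Polynomial IsLocalRing

namespace Groth.Agent.H8.Jets

section Core

variable {k : Type u} [Field k] {R : Type u} [CommRing R] [IsLocalRing R] [Algebra k R]

lemma algHom_eq_zero_iff (χ : R →ₐ[k] k) (a : R) : χ a = 0 ↔ a ∈ maximalIdeal R := by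
  have hsurj : Function.Surjective χ.toRingHom := fun c => ⟨algebraMap k R c, by simp⟩
  haveI := RingHom.ker_isMaximal_of_surjective χ.toRingHom hsurj
  have h := IsLocalRing.eq_maximalIdeal (inferInstance : (RingHom.ker χ.toRingHom).IsMaximal)
  rw [← h, RingHom.mem_ker]
  rfl

lemma sub_mem (ρ : R →ₐ[k] k) (a : R) : a - algebraMap k R (ρ a) ∈ maximalIdeal R := by
  rw [← algHom_eq_zero_iff ρ, map_sub, AlgHom.commutes]
  simp

lemma algHom_unique (χ ρ : R →ₐ[k] k) : χ = ρ := by
  ext a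
  have h := (algHom_eq_zero_iff χ _).mpr (sub_mem ρ a)
  rw [map_sub, AlgHom.commutes, sub_eq_zero] at h
  simpa using h

/-- the `𝔪`-part of an element -/
noncomputable def del (ρ : R →ₐ[k] k) (a : R) : maximalIdeal R :=
  ⟨a - algebraMap k R (ρ a), sub_mem ρ a⟩

lemma del_add (ρ : R →ₐ[k] k) (a b : R) : del ρ (a + b) = del ρ a + del ρ b := by
  apply Subtype.ext
  show (a + b) - algebraMap k R (ρ (a + b)) =
    (a - algebraMap k R (ρ a)) + (b - algebraMap k R (ρ b))
  rw [map_add, map_add]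
  ring

lemma del_mul (ρ : R →ₐ[k] k) (a b : R) :
    del ρ (a * b) = a • del ρ b + algebraMap k R (ρ b) • del ρ a := by
  apply Subtype.ext
  show a * b - algebraMap k R (ρ (a * b)) =
    a * (b - algebraMap k R (ρ b)) + algebraMap k R (ρ b) * (a - algebraMap k R (ρ a))
  rw [map_mul, map_mul]
  ring

lemma del_algebraMap (ρ : R →ₐ[k] k) (c : k) : del ρ (algebraMap k R c) = 0 := by
  apply Subtype.ext
  show algebraMap k R c - algebraMap k R (ρ (algebraMap k R c)) = 0
  rw [AlgHom.commutes]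
  simp

lemma del_of_mem (ρ : R →ₐ[k] k) (a : R) (ha : a ∈ maximalIdeal R) : del ρ a = ⟨a, ha⟩ := by
  apply Subtype.ext
  show a - algebraMap k R (ρ a) = a
  rw [(algHom_eq_zero_iff ρ a).mpr ha, map_zero, sub_zero]

/-- tangent vectors with prescribed values on a minimal system of generators -/
theorem exists_deriv [IsNoetherianRing R] (ρ : R →ₐ[k] k) {e : ℕ} (y : Fin e → maximalIdeal R)
    (hy : Submodule.span R (Set.range y) = ⊤)
    (he : e = Module.finrank (ResidueField R) (CotangentSpace R)) (v : Fin e → k) :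
    ∃ D : R → k, (∀ a b, D (a + b) = D a + D b) ∧ (∀ c, D (algebraMap k R c) = 0) ∧
      (∀ a b, D (a * b) = ρ a * D b + ρ b * D a) ∧ ∀ i, D (y i) = v i := by
  classical
  haveI : IsLocalHom ρ.toRingHom := ⟨fun a ha => by
    by_contra hna
    have h0 : ρ a = 0 := (algHom_eq_zero_iff ρ a).mpr hna
    exact ha.ne_zero h0⟩
  let ρb : ResidueField R →+* k := ResidueField.lift ρ.toRingHom
  have hρb : ∀ a, ρb (residue R a) = ρ a := fun a => ResidueField.lift_residue_apply ρ.toRingHom a
  have htop : ⊤ ≤ Submodule.span (ResidueField R)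
      (Set.range fun i => (maximalIdeal R).toCotangent (y i)) := by
    rw [top_le_iff]
    have : Set.range (fun i => (maximalIdeal R).toCotangent (y i)) =
        (maximalIdeal R).toCotangent '' Set.range y := by
      rw [← Set.range_comp]
      rfl
    rw [this, CotangentSpace.span_image_eq_top_iff]
    exact hy
  let b := basisOfTopLeSpanOfCardEqFinrank (fun i => (maximalIdeal R).toCotangent (y i)) htop
    (by rw [Fintype.card_fin]; exact he)
  have hb : ∀ i, b i = (maximalIdeal R).toCotangent (y i) := fun i => by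
    simp [b]
  let ℓ : CotangentSpace R →ₗ[ResidueField R] ResidueField R :=
    b.constr (ResidueField R) (fun i => residue R (algebraMap k R (v i)))
  have hℓ : ∀ i, ℓ ((maximalIdeal R).toCotangent (y i)) = residue R (algebraMap k R (v i)) :=
    fun i => by
      rw [← hb i]
      exact b.constr_basis _ _ i
  have hsm : ∀ (r : R) (z : CotangentSpace R), ℓ (r • z) = residue R r * ℓ z := fun r z => by
    have : r • z = algebraMap R (ResidueField R) r • z :=
      (IsScalarTower.algebraMap_smul (ResidueField R) r z).symm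
    rw [this, map_smul, smul_eq_mul]
    rfl
  refine ⟨fun a => ρb (ℓ ((maximalIdeal R).toCotangent (del ρ a))), ?_, ?_, ?_, ?_⟩
  · intro a b
    simp only [del_add, map_add]
  · intro c
    simp only [del_algebraMap, map_zero]
  · intro a b
    simp only [del_mul, map_add, map_smul]
    rw [hsm, hsm, map_mul, map_mul, hρb, hρb, AlgHom.commutes]
    simp only [Algebra.algebraMap_self, RingHom.id_apply]
  · intro i
    show ρb (ℓ ((maximalIdeal R).toCotangent (del ρ (y i)))) = v i
    rw [del_of_mem ρ (y i) (y i).2]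
    show ρb (ℓ ((maximalIdeal R).toCotangent (y i))) = v i
    rw [hℓ, hρb, AlgHom.commutes]
    rfl

/-- the first order jet attached to a tangent vector -/
theorem exists_jet2 (ρ : R →ₐ[k] k) (D : R → k) (hadd : ∀ a b, D (a + b) = D a + D b)
    (halg : ∀ c, D (algebraMap k R c) = 0) (hmul : ∀ a b, D (a * b) = ρ a * D b + ρ b * D a) :
    ∃ φ : R →ₐ[k] (k[X] ⧸ Ideal.span {(X : k[X]) ^ 2}),
      ∀ a, φ a = Ideal.Quotient.mk _ (C (ρ a) + C (D a) * X) := by
  have h1 : D 1 = 0 := by simpa using halg 1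
  have h0 : D 0 = 0 := by simpa using halg 0
  refine ⟨{ toFun := fun a => Ideal.Quotient.mk _ (C (ρ a) + C (D a) * X)
            map_one' := ?_, map_mul' := ?_, map_zero' := ?_, map_add' := ?_, commutes' := ?_ },
    fun a => rfl⟩
  · simp [h1]
  · intro a b
    show Ideal.Quotient.mk (Ideal.span {(X : k[X]) ^ 2}) (C (ρ (a * b)) + C (D (a * b)) * X) =
      Ideal.Quotient.mk _ (C (ρ a) + C (D a) * X) * Ideal.Quotient.mk _ (C (ρ b) + C (D b) * X)
    rw [← map_mul, Ideal.Quotient.eq, Ideal.mem_span_singleton]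
    refine ⟨-(C (D a) * C (D b)), ?_⟩
    rw [hmul, map_mul ρ]
    simp only [map_add, map_mul]
    ring
  · simp [h0]
  · intro a b
    show Ideal.Quotient.mk (Ideal.span {(X : k[X]) ^ 2}) (C (ρ (a + b)) + C (D (a + b)) * X) =
      Ideal.Quotient.mk _ (C (ρ a) + C (D a) * X) + Ideal.Quotient.mk _ (C (ρ b) + C (D b) * X)
    rw [← map_add, hadd, map_add ρ]
    congr 1
    simp only [map_add]
    ring
  · intro c
    show Ideal.Quotient.mk (Ideal.span {(X : k[X]) ^ 2})
      (C (ρ (algebraMap k R c)) + C (D (algebraMap k R c)) * X) = _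
    rw [halg, AlgHom.commutes, ← Ideal.Quotient.mk_algebraMap, ← Polynomial.C_eq_algebraMap]
    simp

/-- a compatible tower of jets with prescribed tangent vector -/
theorem exists_tower [IsNoetherianRing R] (ρ : R →ₐ[k] k)
    (H : ∀ l : ℕ, 2 ≤ l → ∀ φ : R →ₐ[k] (k[X] ⧸ Ideal.span {(X : k[X]) ^ l}),
      ∃ ψ : R →ₐ[k] (k[X] ⧸ Ideal.span {(X : k[X]) ^ (l + 1)}),
        (Ideal.Quotient.factorₐ k (Ideal.span_singleton_le_span_singleton.mpr
          (pow_dvd_pow (X : k[X]) (Nat.le_succ l)))).comp ψ = φ)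
    {e : ℕ} (y : Fin e → maximalIdeal R) (hy : Submodule.span R (Set.range y) = ⊤)
    (he : e = Module.finrank (ResidueField R) (CotangentSpace R)) (v : Fin e → k) :
    ∀ l : ℕ, 1 ≤ l → ∃ φ : R →ₐ[k] (k[X] ⧸ Ideal.span {(X : k[X]) ^ l}),
      ∀ i, ∃ p : k[X], φ (y i) = Ideal.Quotient.mk _ p ∧ p.coeff 0 = 0 ∧ p.coeff 1 = v i := by
  have h2 : ∃ φ : R →ₐ[k] (k[X] ⧸ Ideal.span {(X : k[X]) ^ 2}),
      ∀ i, ∃ p : k[X], φ (y i) = Ideal.Quotient.mk _ p ∧ p.coeff 0 = 0 ∧ p.coeff 1 = v i := by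
    obtain ⟨D, hadd, halg, hmul, hD⟩ := exists_deriv ρ y hy he v
    obtain ⟨φ, hφ⟩ := exists_jet2 ρ D hadd halg hmul
    refine ⟨φ, fun i => ⟨C (v i) * X, ?_, ?_, ?_⟩⟩
    · rw [hφ, hD, (algHom_eq_zero_iff ρ _).mpr (y i).2, map_zero, zero_add]
    · simp
    · simp
  have hge2 : ∀ l, 2 ≤ l → ∃ φ : R →ₐ[k] (k[X] ⧸ Ideal.span {(X : k[X]) ^ l}),
      ∀ i, ∃ p : k[X], φ (y i) = Ideal.Quotient.mk _ p ∧ p.coeff 0 = 0 ∧ p.coeff 1 = v i := by
    intro l hl
    induction l, hl using Nat.le_induction with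
    | base => exact h2
    | succ l hl ih =>
      obtain ⟨φ, hφ⟩ := ih
      obtain ⟨ψ, hψ⟩ := H l hl φ
      refine ⟨ψ, fun i => ?_⟩
      obtain ⟨p, hp, hp0, hp1⟩ := hφ i
      obtain ⟨p', hp'⟩ := Ideal.Quotient.mk_surjective (ψ (y i))
      have hfac : Ideal.Quotient.mk (Ideal.span {(X : k[X]) ^ l}) p' = Ideal.Quotient.mk _ p := by
        have h1 : ((Ideal.Quotient.factorₐ k (Ideal.span_singleton_le_span_singleton.mpr
          (pow_dvd_pow (X : k[X]) (Nat.le_succ l)))).comp ψ) (y i) = φ (y i) := by rw [hψ]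
        rw [AlgHom.comp_apply, ← hp'] at h1
        rw [← hp, ← h1]
        rfl
      rw [Ideal.Quotient.eq, Ideal.mem_span_singleton, Polynomial.X_pow_dvd_iff] at hfac
      refine ⟨p', hp'.symm, ?_, ?_⟩
      · have := hfac 0 (by omega)
        rw [coeff_sub, sub_eq_zero] at this
        rw [this, hp0]
      · have := hfac 1 (by omega)
        rw [coeff_sub, sub_eq_zero] at this
        rw [this, hp1]
  intro l hl
  rcases Nat.lt_or_ge l 2 with h | h
  · have h1 : l = 1 := by omega
    subst h1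
    refine ⟨(Algebra.ofId k _).comp ρ, fun i => ⟨C (v i) * X, ?_, by simp, by simp⟩⟩
    rw [AlgHom.comp_apply, (algHom_eq_zero_iff ρ _).mpr (y i).2, map_zero, eq_comm,
      Ideal.Quotient.eq_zero_iff_mem, Ideal.mem_span_singleton, pow_one]
    exact Dvd.intro_left _ rfl
  · exact hge2 l h

/-- jets kill high powers of the maximal ideal -/
lemma map_eq_zero_of_mem_pow (d : ℕ) (φ : R →ₐ[k] (k[X] ⧸ Ideal.span {(X : k[X]) ^ (d + 1)}))
    (a : R) (ha : a ∈ maximalIdeal R ^ (d + 1)) : φ a = 0 := by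
  have hle : Ideal.map φ.toRingHom (maximalIdeal R) ≤ Ideal.span {xx k (d + 1)} := by
    rw [Ideal.map_le_iff_le_comap]
    intro b hb
    rw [Ideal.mem_comap, Ideal.mem_span_singleton]
    have hb0 : aug k (d + 1) (Nat.succ_ne_zero d) (φ b) = 0 :=
      (algHom_eq_zero_iff ((aug k (d + 1) (Nat.succ_ne_zero d)).comp φ) b).mpr hb
    obtain ⟨g, hg⟩ := exists_eq_add k (d + 1) (Nat.succ_ne_zero d) (φ b)
    rw [hb0, map_zero, zero_add] at hg
    exact ⟨g, hg⟩
  have h1 : φ.toRingHom a ∈ Ideal.map φ.toRingHom (maximalIdeal R ^ (d + 1)) :=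
    Ideal.mem_map_of_mem _ ha
  rw [Ideal.map_pow] at h1
  have h2 := Ideal.pow_right_mono hle (d + 1) h1
  rw [Ideal.span_singleton_pow, xx_pow, Ideal.span_singleton_eq_bot.mpr rfl] at h2
  exact Ideal.mem_bot.mp h2

/-- the leading form computation -/
lemma eval_map_eq_zero (d : ℕ) (φ : R →ₐ[k] (k[X] ⧸ Ideal.span {(X : k[X]) ^ (d + 1)}))
    {c : ℕ} (f : Fin c → R) (w : Fin c → (k[X] ⧸ Ideal.span {(X : k[X]) ^ (d + 1)}))
    (hw : ∀ i, φ (f i) = xx k (d + 1) * w i)
    (χ : R →+* k) (hχ : ∀ a, aug k (d + 1) (Nat.succ_ne_zero d) (φ a) = χ a)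
    (v : Fin c → k) (hv : ∀ i, aug k (d + 1) (Nat.succ_ne_zero d) (w i) = v i)
    (P : MvPolynomial (Fin c) R) (hP : P.IsHomogeneous d)
    (h0 : φ (MvPolynomial.eval f P) = 0) :
    MvPolynomial.eval v (MvPolynomial.map χ P) = 0 := by
  have h1 : φ.toRingHom (MvPolynomial.eval f P) =
      MvPolynomial.eval (fun i => xx k (d + 1) * w i) (MvPolynomial.map φ.toRingHom P) := by
    have hg : (fun i => xx k (d + 1) * w i) = (φ.toRingHom ∘ f) := funext fun i => (hw i).symm
    rw [hg, MvPolynomial.eval_map, ← MvPolynomial.eval₂_id (g := f) (p := P)]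
    exact (MvPolynomial.eval₂_comp_left φ.toRingHom (RingHom.id R) f P).trans
      (by rw [RingHom.comp_id])
  have h0' : φ.toRingHom (MvPolynomial.eval f P) = 0 := h0
  rw [h1, eval_smul_of_isHomogeneous _ w _ (hP.map φ.toRingHom)] at h0'
  set q := MvPolynomial.eval w (MvPolynomial.map φ.toRingHom P) with hq
  obtain ⟨g, hg⟩ := exists_eq_add k (d + 1) (Nat.succ_ne_zero d) q
  have h2 : algebraMap k _ (aug k (d + 1) (Nat.succ_ne_zero d) q) * xx k (d + 1) ^ d = 0 := by
    have : xx k (d + 1) ^ d * q =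
        algebraMap k _ (aug k (d + 1) (Nat.succ_ne_zero d) q) * xx k (d + 1) ^ d +
          xx k (d + 1) ^ (d + 1) * g := by
      conv_lhs => rw [hg]
      ring
    rw [this, xx_pow, zero_mul, add_zero] at h0'
    exact h0'
  have h3 := eq_zero_of_mul_xx_pow k d _ h2
  have h4 : aug k (d + 1) (Nat.succ_ne_zero d) q = MvPolynomial.eval v (MvPolynomial.map χ P) := by
    rw [hq, MvPolynomial.eval_map, MvPolynomial.eval_map]
    have := MvPolynomial.eval₂_comp_left (aug k (d + 1) (Nat.succ_ne_zero d)).toRingHom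
      φ.toRingHom w P
    have e1 : (aug k (d + 1) (Nat.succ_ne_zero d)).toRingHom.comp φ.toRingHom = χ :=
      RingHom.ext hχ
    have e2 : ((aug k (d + 1) (Nat.succ_ne_zero d)).toRingHom ∘ w) = v := funext hv
    rw [e1, e2] at this
    exact this
  rw [← h4, h3]

theorem isQuasiRegular_of_lifts [IsNoetherianRing R] [Infinite k] (ρ : R →ₐ[k] k)
    (H : ∀ l : ℕ, 2 ≤ l → ∀ φ : R →ₐ[k] (k[X] ⧸ Ideal.span {(X : k[X]) ^ l}),
      ∃ ψ : R →ₐ[k] (k[X] ⧸ Ideal.span {(X : k[X]) ^ (l + 1)}),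
        (Ideal.Quotient.factorₐ k (Ideal.span_singleton_le_span_singleton.mpr
          (pow_dvd_pow (X : k[X]) (Nat.le_succ l)))).comp ψ = φ)
    {e : ℕ} (y : Fin e → maximalIdeal R) (hy : Submodule.span R (Set.range y) = ⊤)
    (he : e = Module.finrank (ResidueField R) (CotangentSpace R)) :
    CAlgX.IsQuasiRegular (fun i => (y i : R)) := by
  intro n P hP hmem d
  have hspan : Ideal.span (Set.range fun i => (y i : R)) = maximalIdeal R := by
    have := congrArg (Submodule.map (maximalIdeal R).subtype) hy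
    rw [Submodule.map_span, Submodule.map_top, Submodule.range_subtype, ← Set.range_comp] at this
    exact this
  rw [hspan] at hmem ⊢
  rw [← algHom_eq_zero_iff ρ]
  have hzero : MvPolynomial.map ρ.toRingHom P = 0 := by
    apply MvPolynomial.funext
    intro v
    rw [map_zero]
    obtain ⟨φ, hφ⟩ := exists_tower ρ H y hy he v (n + 1) (Nat.succ_le_succ (Nat.zero_le n))
    choose p hp hp0 hp1 using hφ
    have hw : ∀ i, φ (y i) = xx k (n + 1) * Ideal.Quotient.mk _ (p i).divX := by
      intro i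
      rw [hp i, xx, ← map_mul]
      congr 1
      conv_lhs => rw [← Polynomial.divX_mul_X_add (p i), hp0 i, map_zero, add_zero]
      ring
    have h0 : φ (MvPolynomial.eval (fun i => (y i : R)) P) = 0 :=
      map_eq_zero_of_mem_pow n φ _ hmem
    refine eval_map_eq_zero n φ (fun i => (y i : R)) _ hw ρ.toRingHom ?_ v ?_ P hP h0
    · intro a
      exact AlgHom.congr_fun (algHom_unique ((aug k (n + 1) (Nat.succ_ne_zero n)).comp φ) ρ) a
    · intro i
      rw [aug_mk, Polynomial.coeff_divX, zero_add, hp1]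
  have := congrArg (MvPolynomial.coeff d) hzero
  rwa [MvPolynomial.coeff_map, MvPolynomial.coeff_zero] at this

/-- **local core**: if all curvilinear jets lift, the ring is regular -/
theorem isRegularLocalRing_of_lifts [IsNoetherianRing R] [Infinite k] (ρ : R →ₐ[k] k)
    (H : ∀ l : ℕ, 2 ≤ l → ∀ φ : R →ₐ[k] (k[X] ⧸ Ideal.span {(X : k[X]) ^ l}),
      ∃ ψ : R →ₐ[k] (k[X] ⧸ Ideal.span {(X : k[X]) ^ (l + 1)}),
        (Ideal.Quotient.factorₐ k (Ideal.span_singleton_le_span_singleton.mpr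
          (pow_dvd_pow (X : k[X]) (Nat.le_succ l)))).comp ψ = φ) :
    IsRegularLocalRing R := by
  obtain ⟨e, y, he, hgen⟩ := Groth.Agent.H1.Reg.exists_extension_generators (R := R) 0
    (fun i => Fin.elim0 i) linearIndependent_empty_type
  rw [add_zero] at he
  have hspan : Ideal.span (Set.range fun j => (y j : R)) = maximalIdeal R := by
    have : Set.range (fun i : Fin 0 => ((Fin.elim0 i : maximalIdeal R) : R)) = ∅ :=
      Set.range_eq_empty _
    rw [this, Set.empty_union] at hgen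
    exact hgen
  have hy : Submodule.span R (Set.range y) = ⊤ :=
    Groth.Agent.H1.Reg.span_range_eq_top_of_span_eq y hspan
  have hq := isQuasiRegular_of_lifts ρ H y hy he
  apply Groth.Agent.H2.HSReg.backward
  intro s
  have h1 := Groth.Agent.H2.HSReg.length_quot_pow_succ (fun j => (y j : R)) hq s
  rw [hspan, Groth.Agent.H2.HSReg.length_residue, mul_one, he] at h1
  exact h1

end Core

end Groth.Agent.H8.Jets
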