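import Mathlib
import Groth.Agent.Lib.Helper8.Jets.Core
import Groth.Agent.Lib.Helper8.HopfDim.Core

/-! Regularity of a closed point of a variety over an algebraically closed field is detected by
lifting of curvilinear jets. -/

set_option autoImplicit false
set_option linter.style.haveILetI false
universe u
open Polynomial IsLocalRing

namespace Groth.Agent.H8.Jets

theorem main (k : Type u) [Field k] [IsAlgClosed k]
    (A : Type u) [CommRing A] [Algebra k A] [Algebra.FiniteType k A]
    (m : Ideal A) [m.IsMaximal] :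
    IsRegularLocalRing (Localization.AtPrime m) ↔
      ∀ (l : ℕ), 1 ≤ l →
        ∀ (φ : A →ₐ[k] (k[X] ⧸ Ideal.span {(X : k[X]) ^ l})),
          (∀ a ∈ m, IsNilpotent (φ a)) →
          ∃ ψ : A →ₐ[k] (k[X] ⧸ Ideal.span {(X : k[X]) ^ (l + 1)}),
            (Ideal.Quotient.factorₐ k
                (Ideal.span_singleton_le_span_singleton.mpr
                  (pow_dvd_pow (X : k[X]) (Nat.le_succ l)))).comp ψ = φ := by
  classical
  obtain ⟨g, hg⟩ := Groth.Agent.H8.HopfDim.exists_point_of_isMaximal k A m
  have hgm : ∀ a, g a = 0 ↔ a ∈ m := fun a => by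
    rw [← hg, RingHom.mem_ker]
  haveI : IsNoetherianRing A := Algebra.FiniteType.isNoetherianRing k A
  have key : ∀ (l : ℕ) (hl : l ≠ 0) (φ : A →ₐ[k] (k[X] ⧸ Ideal.span {(X : k[X]) ^ l})),
      (∀ a ∈ m, IsNilpotent (φ a)) → ∀ a, aug k l hl (φ a) = g a := by
    intro l hl φ hnil a
    have h1 : a - algebraMap k A (g a) ∈ m := by
      rw [← hgm, map_sub, AlgHom.commutes]
      simp
    have h2 := aug_eq_zero_of_isNilpotent k l hl _ (hnil _ h1)
    rw [map_sub, map_sub, AlgHom.commutes, AlgHom.commutes, sub_eq_zero] at h2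
    simpa using h2
  constructor
  · intro hreg l hl φ hnil
    have hl0 : l ≠ 0 := by omega
    haveI : Algebra.FormallySmooth k (Localization.AtPrime m) :=
      (Groth.Agent.H8.HopfDim.isSmoothAt_iff_isRegularLocalRing k A m).mpr hreg
    have hu : ∀ s : m.primeCompl, IsUnit (φ s) := fun s => by
      apply isUnit_of_aug_ne_zero k l hl0
      rw [key l hl0 φ hnil, Ne, hgm]
      exact s.2
    let φR : Localization.AtPrime m →ₐ[k] (k[X] ⧸ Ideal.span {(X : k[X]) ^ l}) :=
      IsLocalization.liftAlgHom (M := m.primeCompl) (f := φ) hu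
    have hle : Ideal.span {(X : k[X]) ^ (l + 1)} ≤ Ideal.span {(X : k[X]) ^ l} :=
      Ideal.span_singleton_le_span_singleton.mpr (pow_dvd_pow (X : k[X]) (Nat.le_succ l))
    let ψR := Algebra.FormallySmooth.liftOfSurjective φR (Ideal.Quotient.factorₐ k hle)
      (Ideal.Quotient.factor_surjective hle) (isNilpotent_ker_factor k l hl hle)
    refine ⟨ψR.comp (Algebra.algHom k A (Localization.AtPrime m)), ?_⟩
    rw [← AlgHom.comp_assoc]
    have hc : (Ideal.Quotient.factorₐ k hle).comp ψR = φR :=
      Algebra.FormallySmooth.comp_liftOfSurjective φR (Ideal.Quotient.factorₐ k hle)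
        (Ideal.Quotient.factor_surjective hle) (isNilpotent_ker_factor k l hl hle)
    rw [hc]
    ext a
    exact IsLocalization.lift_eq _ a
  · intro Hl
    have hug : ∀ s : m.primeCompl, IsUnit (g s) := fun s =>
      IsUnit.mk0 _ (by rw [Ne, hgm]; exact s.2)
    let ρ : Localization.AtPrime m →ₐ[k] k :=
      IsLocalization.liftAlgHom (M := m.primeCompl) (f := g) hug
    haveI : IsNoetherianRing (Localization.AtPrime m) :=
      IsLocalization.isNoetherianRing m.primeCompl _ inferInstance
    refine isRegularLocalRing_of_lifts ρ ?_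
    intro l hl φR
    have hl0 : l ≠ 0 := by omega
    have hle : Ideal.span {(X : k[X]) ^ (l + 1)} ≤ Ideal.span {(X : k[X]) ^ l} :=
      Ideal.span_singleton_le_span_singleton.mpr (pow_dvd_pow (X : k[X]) (Nat.le_succ l))
    let φ : A →ₐ[k] (k[X] ⧸ Ideal.span {(X : k[X]) ^ l}) :=
      φR.comp (Algebra.algHom k A (Localization.AtPrime m))
    have hφ : ∀ a, φ a = φR (algebraMap A (Localization.AtPrime m) a) := fun a => rfl
    have hnil : ∀ a ∈ m, IsNilpotent (φ a) := by
      intro a ha
      apply isNilpotent_of_aug_eq_zero k l hl0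
      exact (algHom_eq_zero_iff ((aug k l hl0).comp φR) _).mpr
        ((IsLocalization.AtPrime.to_map_mem_maximal_iff _ m a).mpr ha)
    obtain ⟨ψ, hψ⟩ := Hl l (by omega) φ hnil
    have hψ' : ∀ a, Ideal.Quotient.factorₐ k hle (ψ a) = φ a := fun a => by
      rw [← hψ]
      rfl
    have hu : ∀ s : m.primeCompl, IsUnit (ψ s) := fun s => by
      apply isUnit_of_aug_ne_zero k (l + 1) (Nat.succ_ne_zero l)
      rw [← aug_factor k l (l + 1) hl0 (Nat.succ_ne_zero l) hle (ψ s), hψ', hφ]
      apply aug_ne_zero_of_isUnit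
      exact (IsLocalization.map_units (Localization.AtPrime m) s).map φR
    refine ⟨IsLocalization.liftAlgHom (M := m.primeCompl) (f := ψ) hu, ?_⟩
    apply IsLocalization.algHom_ext m.primeCompl
    ext a
    show Ideal.Quotient.factorₐ k hle
      (IsLocalization.lift hu (algebraMap A (Localization.AtPrime m) a)) =
        φR (algebraMap A (Localization.AtPrime m) a)
    rw [IsLocalization.lift_eq]
    exact hψ' a

end Groth.Agent.H8.Jets
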